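import Mathlib
import Groth.Prelude.Def_HTop2

/-!
# The conductor of a finite birational extension of a seminormal ring
-/

set_option autoImplicit false
set_option linter.style.haveILetI false

universe u

open TensorProduct nonZeroDivisors

namespace Groth.Agent.H06SNPush

variable {A B : Type u} [CommRing A] [CommRing B] [Algebra A B]

/-- The largest ideal of `B` contained in the image of `A`. -/
def cond (A B : Type u) [CommRing A] [CommRing B] [Algebra A B] : Ideal B where
  carrier := {x | ∀ b : B, x * b ∈ Set.range (algebraMap A B)}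
  zero_mem' b := ⟨0, by rw [map_zero, zero_mul]⟩
  add_mem' {x y} hx hy b := by
    obtain ⟨a, ha⟩ := hx b
    obtain ⟨a', ha'⟩ := hy b
    exact ⟨a + a', by rw [map_add, ha, ha', add_mul]⟩
  smul_mem' r x hx b := by
    obtain ⟨a, ha⟩ := hx (r * b)
    exact ⟨a, by rw [ha, smul_eq_mul]; ring⟩

theorem mem_cond {x : B} : x ∈ cond A B ↔ ∀ b : B, x * b ∈ Set.range (algebraMap A B) := Iff.rfl

theorem mem_range_of_mem_cond {x : B} (hx : x ∈ cond A B) : x ∈ Set.range (algebraMap A B) := by
  simpa using hx 1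

variable (hsn : HTop.IsSeminormalRing A) (hinj : Function.Injective (algebraMap A B))

include hsn hinj

theorem mem_range_of_sq_cube [IsReduced B] {b : B} (h2 : b ^ 2 ∈ Set.range (algebraMap A B))
    (h3 : b ^ 3 ∈ Set.range (algebraMap A B)) : b ∈ Set.range (algebraMap A B) := by
  obtain ⟨x, hx⟩ := h2
  obtain ⟨y, hy⟩ := h3
  obtain ⟨a, ⟨ha2, ha3⟩, -⟩ := hsn x y (hinj (by rw [map_pow, map_pow, hx, hy]; ring))
  set a' := algebraMap A B a with ha'
  have e2 : a' ^ 2 = b ^ 2 := by rw [ha', ← map_pow, ← ha2, hx]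
  have e3 : a' ^ 3 = b ^ 3 := by rw [ha', ← map_pow, ← ha3, hy]
  have h : (a' - b) ^ 4 = 0 := by
    linear_combination (a' - 3 * b) * (e3 - b * e2) + (3 * a' - b) * (e3 - a' * e2)
  exact ⟨a, sub_eq_zero.mp (IsReduced.eq_zero _ ⟨4, h⟩)⟩

theorem mem_cond_of_pow_mem [IsReduced B] : ∀ (n : ℕ) {x : B}, x ^ n ∈ cond A B → x ∈ cond A B := by
  intro n
  induction n with
  | zero => exact fun {x} h => by simpa using Ideal.mul_mem_left _ x h
  | succ n ih =>
    intro x h
    rcases n with _ | m
    · rwa [pow_one] at h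
    · refine ih (mem_cond.mpr fun b => mem_range_of_sq_cube hsn hinj ?_ ?_)
      · have := h (x ^ m * b ^ 2)
        rwa [show x ^ (m + 1 + 1) * (x ^ m * b ^ 2) = (x ^ (m + 1) * b) ^ 2 by ring] at this
      · have := h (x ^ (2 * m + 1) * b ^ 3)
        rwa [show x ^ (m + 1 + 1) * (x ^ (2 * m + 1) * b ^ 3) = (x ^ (m + 1) * b) ^ 3 by ring] at this

/-- The conductor is radical in `B` and in `A`. -/
theorem isRadical_cond [IsReduced B] : (cond A B).IsRadical := fun _ ⟨n, hn⟩ =>
  mem_cond_of_pow_mem hsn hinj n hn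

omit hsn in
/-- A radical ideal of `A` contained in the conductor is an ideal of `B`. -/
theorem exists_of_mem_map {I : Ideal A} (hI : I.IsRadical) (hIc : I.map (algebraMap A B) ≤ cond A B)
    {y : B} (hy : y ∈ I.map (algebraMap A B)) : ∃ i ∈ I, algebraMap A B i = y := by
  induction hy using Submodule.span_induction with
  | mem z hz =>
    obtain ⟨i, hi, rfl⟩ := hz
    exact ⟨i, hi, rfl⟩
  | zero => exact ⟨0, I.zero_mem, map_zero _⟩
  | add z w _ _ hz hw =>
    obtain ⟨i, hi, rfl⟩ := hz
    obtain ⟨j, hj, rfl⟩ := hw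
    exact ⟨i + j, add_mem hi hj, map_add _ _ _⟩
  | smul r z _ hz =>
    obtain ⟨i, hi, rfl⟩ := hz
    obtain ⟨a, ha⟩ := hIc (Ideal.mem_map_of_mem _ hi) r
    obtain ⟨a', ha'⟩ := hIc (Ideal.mem_map_of_mem _ hi) (r * r)
    refine ⟨a, hI ⟨2, ?_⟩, by rw [ha, smul_eq_mul, mul_comm]⟩
    have h : a ^ 2 = i * a' := hinj (by rw [map_pow, map_mul, ha, ha']; ring)
    rw [h]
    exact Ideal.mul_mem_right _ _ hi

theorem isRadical_map [IsReduced B] {I : Ideal A} (hI : I.IsRadical)
    (hIc : I.map (algebraMap A B) ≤ cond A B) : (I.map (algebraMap A B)).IsRadical := fun x ⟨n, hn⟩ => by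
  obtain ⟨a, rfl⟩ := mem_range_of_mem_cond (mem_cond_of_pow_mem hsn hinj n (hIc hn))
  obtain ⟨i, hi, he⟩ := exists_of_mem_map hinj hI hIc hn
  rw [← map_pow] at he
  exact Ideal.mem_map_of_mem _ (hI ⟨n, hinj he ▸ hi⟩)

omit hsn in
/-- At a normal point the conductor is trivial. -/
theorem exists_notMem_cond [Module.Finite A B] {t : A} (ht : t ∈ A⁰) (htB : algebraMap A B t ∈ B⁰)
    (hden : ∀ b : B, ∃ (n : ℕ) (a : A), algebraMap A B t ^ n * b = algebraMap A B a)
    (P : Ideal A) [P.IsPrime] (L : Type u) [CommRing L] [Algebra A L] [IsLocalization.AtPrime L P]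
    [IsDomain L] [IsIntegrallyClosed L] : ∃ s ∉ P, algebraMap A B s ∈ cond A B := by
  have htL : algebraMap A L t ≠ 0 := fun h => by
    obtain ⟨m, hm⟩ := (IsLocalization.map_eq_zero_iff P.primeCompl L t).mp h
    exact m.2 (by rw [mem_nonZeroDivisors_iff_right.mp ht _ hm]; exact P.zero_mem)
  have hone : ∀ b : B, ∃ s ∉ P, algebraMap A B s * b ∈ Set.range (algebraMap A B) := by
    intro b
    obtain ⟨n, a, hab⟩ := hden b
    obtain ⟨p, hp, hpb⟩ := (Algebra.IsIntegral.isIntegral (R := A) b)
    let K := FractionRing L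
    let g : A →+* K := (algebraMap L K).comp (algebraMap A L)
    have hgt : g (t ^ n) ≠ 0 := by
      rw [map_pow]
      exact pow_ne_zero _ fun h => htL (IsFractionRing.injective L K (h.trans (map_zero _).symm))
    have h0 : Polynomial.eval₂ g (g a) (p.scaleRoots (t ^ n)) = 0 := by
      have h1 : Polynomial.eval₂ (algebraMap A B) (algebraMap A B a) (p.scaleRoots (t ^ n)) = 0 := by
        rw [← hab, ← map_pow, Polynomial.scaleRoots_eval₂_mul, hpb, mul_zero]
      rw [Polynomial.eval₂_at_apply] at h1 ⊢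
      rw [show (p.scaleRoots (t ^ n)).eval a = 0 from hinj (h1.trans (map_zero _).symm), map_zero]
    have h2 : Polynomial.eval₂ g (g a / g (t ^ n)) p = 0 := by
      rw [show g a = g (t ^ n) * (g a / g (t ^ n)) from (mul_div_cancel₀ _ hgt).symm,
        Polynomial.scaleRoots_eval₂_mul] at h0
      exact (mul_eq_zero.mp h0).resolve_left (pow_ne_zero _ hgt)
    have hint : IsIntegral L (g a / g (t ^ n)) :=
      ⟨p.map (algebraMap A L), hp.map _, by rw [Polynomial.eval₂_map]; exact h2⟩
    obtain ⟨z, hz⟩ := IsIntegrallyClosed.isIntegral_iff.mp hint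
    obtain ⟨a', s, rfl⟩ := IsLocalization.exists_mk'_eq P.primeCompl z
    have h3 : algebraMap A L (t ^ n * a') = algebraMap A L (s * a) := by
      refine IsFractionRing.injective L K ?_
      show g (t ^ n * a') = g (s * a)
      rw [map_mul, map_mul]
      rw [eq_div_iff hgt] at hz
      have h4 : algebraMap L K (IsLocalization.mk' L a' s) * g s = g a' :=
        ((algebraMap L K).map_mul _ _).symm.trans
          (congrArg (algebraMap L K) (IsLocalization.mk'_spec L a' s))
      rw [← h4, ← hz]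
      ring
    obtain ⟨u, hu⟩ := (IsLocalization.eq_iff_exists P.primeCompl L).mp h3
    refine ⟨u * s, Submonoid.mul_mem P.primeCompl u.2 s.2, u * a', ?_⟩
    refine (mul_cancel_left_mem_nonZeroDivisors (pow_mem htB n)).mp ?_
    have h5 := congrArg (algebraMap A B) hu
    simp only [map_mul, map_pow] at h5 ⊢
    linear_combination h5 - algebraMap A B u * algebraMap A B s * hab
  classical
  obtain ⟨G, hG⟩ := Module.Finite.fg_top (R := A) (M := B)
  choose s hsP hs using hone
  refine ⟨∏ b ∈ G, s b, fun h => ?_, mem_cond.mpr fun b => ?_⟩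
  · obtain ⟨b, -, hb⟩ := (inferInstance : P.IsPrime).prod_mem_iff.mp h
    exact hsP b hb
  · have hb : b ∈ Submodule.span A (G : Set B) := hG ▸ Submodule.mem_top
    induction hb using Submodule.span_induction with
    | mem z hz =>
      obtain ⟨a, ha⟩ := hs z
      refine ⟨(∏ b ∈ G.erase z, s b) * a, ?_⟩
      rw [← Finset.prod_erase_mul G s hz, map_mul, map_mul, ha, mul_assoc]
    | zero => exact ⟨0, by rw [map_zero, mul_zero]⟩
    | add z w _ _ hz hw =>
      obtain ⟨a, ha⟩ := hz
      obtain ⟨a', ha'⟩ := hw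
      exact ⟨a + a', by rw [map_add, ha, ha', mul_add]⟩
    | smul c z _ hz =>
      obtain ⟨a, ha⟩ := hz
      exact ⟨c * a, by rw [map_mul, ha, Algebra.smul_def]; ring⟩

/-- A nonzero divisor giving birationality lies in the conductor. -/
theorem mem_cond_of_den [IsReduced B] [Module.Finite A B] {t : A}
    (hden : ∀ b : B, ∃ (n : ℕ) (a : A), algebraMap A B t ^ n * b = algebraMap A B a) :
    algebraMap A B t ∈ cond A B := by
  classical
  obtain ⟨G, hG⟩ := Module.Finite.fg_top (R := A) (M := B)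
  choose n a ha using hden
  refine mem_cond_of_pow_mem hsn hinj (G.sup n) (mem_cond.mpr fun b => ?_)
  have hb : b ∈ Submodule.span A (G : Set B) := hG ▸ Submodule.mem_top
  induction hb using Submodule.span_induction with
  | mem z hz =>
    refine ⟨t ^ (G.sup n - n z) * a z, ?_⟩
    rw [map_mul, map_pow, ← ha z, ← mul_assoc, ← pow_add, Nat.sub_add_cancel (Finset.le_sup hz)]
  | zero => exact ⟨0, by rw [map_zero, mul_zero]⟩
  | add z w _ _ hz hw =>
    obtain ⟨a, ha⟩ := hz
    obtain ⟨a', ha'⟩ := hw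
    exact ⟨a + a', by rw [map_add, ha, ha', mul_add]⟩
  | smul c z _ hz =>
    obtain ⟨a, ha⟩ := hz
    exact ⟨c * a, by rw [map_mul, ha, Algebra.smul_def]; ring⟩

/-- The fibres are reduced where the conductor is trivial or maximal. -/
theorem isReduced_fiber [IsReduced B] [Module.Finite A B] (P : Ideal A) [P.IsPrime]
    (hP : ∀ Q : Ideal A, Q.IsPrime → (cond A B).comap (algebraMap A B) ≤ Q → Q ≤ P → Q = P) :
    IsReduced (P.Fiber B) := by
  have hcA : ∀ {a : A}, algebraMap A B a ∈ P.map (algebraMap A B) → a ∈ P := by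
    intro a ha
    obtain ⟨Q, -, hQ, hQP⟩ := Ideal.exists_ideal_over_prime_of_isIntegral P (⊥ : Ideal B)
      ((show (⊥ : Ideal B).comap (algebraMap A B) = ⊥ from
        le_bot_iff.mp fun x hx => hinj (hx.trans (map_zero _).symm)).le.trans bot_le)
    rw [← hQP] at ha ⊢
    exact Ideal.mem_comap.mpr (Ideal.map_comap_le ha)
  have key : ∀ (b : B) (n : ℕ), b ^ n ∈ P.map (algebraMap A B) →
      ∃ u ∉ P, algebraMap A B u * b ∈ P.map (algebraMap A B) := by
    intro b n hbn
    by_cases hs : ∃ s ∉ P, algebraMap A B s ∈ cond A B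
    · obtain ⟨s, hsP, hs⟩ := hs
      obtain ⟨a, ha⟩ := hs b
      refine ⟨s, hsP, ha ▸ Ideal.mem_map_of_mem _ ?_⟩
      refine Ideal.IsPrime.mem_of_pow_mem inferInstance n (hcA ?_)
      rw [map_pow, ha, mul_pow]
      exact Ideal.mul_mem_left _ _ hbn
    · push_neg at hs
      have hrad : ((cond A B).comap (algebraMap A B)).IsRadical :=
        (isRadical_cond hsn hinj).comap _
      have hlift : ∀ p ∈ P, ∃ u ∉ P, algebraMap A B (u * p) ∈ cond A B := by
        intro p hp
        by_contra hcon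
        push_neg at hcon
        have hdisj : Disjoint (((cond A B).comap (algebraMap A B) : Ideal A) : Set A)
            ((P.primeCompl ⊔ Submonoid.powers p : Submonoid A) : Set A) := by
          rw [Set.disjoint_left]
          intro x hx hxS
          obtain ⟨u, hu, _, ⟨k, rfl⟩, rfl⟩ := Submonoid.mem_sup.mp hxS
          refine hcon u hu (hrad ⟨k + 1, ?_⟩)
          rw [show (u * p) ^ (k + 1) = (u * p ^ k) * (u ^ k * p) by ring]
          exact Ideal.mul_mem_right _ _ hx
        obtain ⟨Q, hQ, hcQ, hQd⟩ := Ideal.exists_le_prime_disjoint _ _ hdisj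
        have hQP : Q ≤ P := fun x hx => by_contra fun h =>
          Set.disjoint_left.mp hQd hx (Submonoid.mem_sup_left h)
        refine Set.disjoint_left.mp hQd ((hP Q hQ hcQ hQP).symm ▸ hp) ?_
        exact Submonoid.mem_sup_right (Submonoid.mem_powers p)
      have hy : ∀ y ∈ P.map (algebraMap A B), ∃ u ∉ P, algebraMap A B u * y ∈ cond A B := by
        intro y hy
        induction hy using Submodule.span_induction with
        | mem z hz =>
          obtain ⟨p, hp, rfl⟩ := hz
          obtain ⟨u, hu, h⟩ := hlift p hp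
          exact ⟨u, hu, by rwa [← map_mul]⟩
        | zero => exact ⟨1, (Ideal.ne_top_iff_one _).mp (Ideal.IsPrime.ne_top inferInstance), by simp⟩
        | add z w _ _ hz hw =>
          obtain ⟨u, hu, hz⟩ := hz
          obtain ⟨v, hv, hw⟩ := hw
          refine ⟨u * v, Submonoid.mul_mem P.primeCompl hu hv, ?_⟩
          rw [map_mul, mul_add]
          exact add_mem (by rw [mul_right_comm]; exact Ideal.mul_mem_right _ _ hz)
            (by rw [mul_assoc]; exact Ideal.mul_mem_left _ _ hw)
        | smul r z _ hz =>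
          obtain ⟨u, hu, hz⟩ := hz
          exact ⟨u, hu, by rw [smul_eq_mul, mul_left_comm]; exact Ideal.mul_mem_left _ _ hz⟩
      obtain ⟨u, hu, huy⟩ := hy _ hbn
      have hub : algebraMap A B u * b ∈ cond A B := isRadical_cond hsn hinj ⟨n + 1, by
        rw [show (algebraMap A B u * b) ^ (n + 1) =
          (algebraMap A B u * b ^ n) * (algebraMap A B u ^ n * b) by ring]
        exact Ideal.mul_mem_right _ _ huy⟩
      obtain ⟨a, ha⟩ := mem_range_of_mem_cond hub
      refine ⟨u, hu, ha ▸ Ideal.mem_map_of_mem _ ?_⟩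
      by_contra haP
      exact hs a haP (ha ▸ hub)
  refine ⟨fun z hz => ?_⟩
  obtain ⟨n, hn⟩ := hz
  obtain ⟨r, hr, b, hrb⟩ := Ideal.Fiber.exists_smul_eq_one_tmul P z
  have hru : ∀ {r : A}, r ∉ P → ∀ {w : P.Fiber B}, r • w = 0 → w = 0 := fun {r} hr {w} h => by
    rw [← IsScalarTower.algebraMap_smul P.ResidueField r w, smul_eq_zero] at h
    exact h.resolve_left fun h' => hr (Ideal.algebraMap_residueField_eq_zero.mp h')
  have hzero : ∀ y ∈ P.map (algebraMap A B), (1 : P.ResidueField) ⊗ₜ[A] y = 0 := by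
    intro y hy
    induction hy using Submodule.span_induction with
    | mem z hz =>
      obtain ⟨p, hp, rfl⟩ := hz
      rw [Algebra.algebraMap_eq_smul_one, TensorProduct.tmul_smul, TensorProduct.smul_tmul',
        ← Algebra.algebraMap_eq_smul_one, Ideal.algebraMap_residueField_eq_zero.mpr hp,
        TensorProduct.zero_tmul]
    | zero => exact TensorProduct.tmul_zero _ _
    | add z w _ _ hz hw => rw [TensorProduct.tmul_add, hz, hw, add_zero]
    | smul c z _ hz =>
      rw [smul_eq_mul, ← one_mul (1 : P.ResidueField), ← Algebra.TensorProduct.tmul_mul_tmul, hz,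
        mul_zero]
  have hbn : (1 : P.ResidueField) ⊗ₜ[A] (b ^ n) = 0 := by
    rcases n with _ | n
    · rw [pow_zero] at hn ⊢
      rw [show (1 : P.ResidueField) ⊗ₜ[A] (1 : B) = 1 from rfl, hn]
    · rw [← one_pow (n + 1), ← Algebra.TensorProduct.tmul_pow, ← hrb, smul_pow, hn, smul_zero]
  letI : Algebra B (P.Fiber B) := Algebra.TensorProduct.rightAlgebra
  have h1 := congrArg (Ideal.Fiber.algEquivAux₁ (S := B) P) hbn
  rw [map_zero, show (1 : P.ResidueField) ⊗ₜ[A] (b ^ n) = algebraMap B (P.Fiber B) (b ^ n) from rfl,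
    AlgEquiv.commutes, IsScalarTower.algebraMap_apply B
      (Localization (Algebra.algebraMapSubmonoid B P.primeCompl)),
    Ideal.Quotient.algebraMap_eq, Ideal.Quotient.eq_zero_iff_mem,
    IsLocalization.algebraMap_mem_map_algebraMap_iff (Algebra.algebraMapSubmonoid B P.primeCompl)] at h1
  obtain ⟨_, ⟨v, hv, rfl⟩, hvb⟩ := h1
  obtain ⟨u, hu, hub⟩ := key (algebraMap A B v * b) (n + 1) (by
    rw [show (algebraMap A B v * b) ^ (n + 1) = (algebraMap A B v * b ^ n) * (algebraMap A B v ^ n * b) by ring]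
    exact Ideal.mul_mem_right _ _ hvb)
  have h2 := hzero _ hub
  rw [← mul_assoc, ← map_mul, ← Algebra.smul_def, TensorProduct.tmul_smul, ← hrb] at h2
  exact hru hr (hru (Submonoid.mul_mem P.primeCompl hu hv) h2)

end Groth.Agent.H06SNPush
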