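import Groth.Agent.H06SNPush.Algebra
import Groth.Agent.H06NormCurve.Chart
import Groth.Agent.H7Flat.PushoutGlobal
import Groth.Agent.S9829
import Groth.Agent.S7420
import Groth.Agent.S7421
import Groth.Agent.H4Depth.Regular

/-!
# Seminormal curves are pushouts of their normalization and singular locus
-/

set_option autoImplicit false
set_option linter.style.haveILetI false

universe u

open CategoryTheory CategoryTheory.Limits AlgebraicGeometry TopologicalSpace Opposite nonZeroDivisors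

namespace Groth.Agent.H06SNPush

variable {C Cn D : Scheme.{u}} (ν : Cn ⟶ C) (d : D ⟶ C) [IsLocallyNoetherian C]
  (hsn : HTop.IsSeminormal C) [IsFinite ν] (hn : Pi1.IsNormalScheme Cn) {U₀ : C.Opens}
  (hU₀ : Dense (U₀ : Set C)) (hU₀' : Dense ((ν ⁻¹ᵁ U₀ : Cn.Opens) : Set Cn)) (hνU : IsIso (ν ∣_ U₀))
  (hd : ∀ x : C, ¬ IsRegularLocalRing (C.presheaf.stalk x) → x ∈ Set.range d)

theorem mem_of_app_eq_zero {W : C.Opens} (hW : IsAffineOpen W) (x : W) (hx : (x : C) ∈ Set.range d)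
    {i : Γ(C, W)} (hi : d.app W i = 0) : i ∈ (hW.primeIdealOf x).asIdeal := by
  by_contra h
  obtain ⟨z, hz⟩ := hx
  have h1 : hW.fromSpec (hW.primeIdealOf x) ∈ C.basicOpen i := by
    rw [← hW.fromSpec_image_basicOpen i]
    exact ⟨_, h, rfl⟩
  rw [hW.fromSpec_primeIdealOf, ← hz] at h1
  have h2 : z ∈ d ⁻¹ᵁ C.basicOpen i := h1
  rw [Scheme.preimage_basicOpen, hi, Scheme.basicOpen_zero] at h2
  exact h2

include hsn hn hU₀ hU₀' hνU hd in
theorem map_ker_le_cond {W : C.Opens} (hW : IsAffineOpen W) [IsReduced C] [IsReduced D] :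
    letI := (ν.app W).hom.toAlgebra
    (RingHom.ker (d.app W).hom).map (ν.app W).hom ≤ cond Γ(C, W) Γ(Cn, ν ⁻¹ᵁ W) := by
  letI : Algebra Γ(C, W) Γ(Cn, ν ⁻¹ᵁ W) := (ν.app W).hom.toAlgebra
  haveI := H06NormCurve.isReduced_of_isNormalScheme hn
  obtain ⟨hfin, hinj, t, ht, htB, hden⟩ := H06NormCurve.exists_chart ν hn hU₀ hU₀' hνU hW
  haveI : Module.Finite Γ(C, W) Γ(Cn, ν ⁻¹ᵁ W) := hfin
  have hsnA : HTop.IsSeminormalRing Γ(C, W) := ((Groth.Agent.S7420.result C).1.mp hsn) ⟨W, hW⟩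
  rw [Ideal.map_le_iff_le_comap]
  intro i hi
  show i ∈ (cond Γ(C, W) Γ(Cn, ν ⁻¹ᵁ W)).comap (algebraMap Γ(C, W) Γ(Cn, ν ⁻¹ᵁ W))
  rw [← ((isRadical_cond hsnA hinj).comap (algebraMap Γ(C, W) Γ(Cn, ν ⁻¹ᵁ W))).radical,
    Ideal.radical_eq_sInf, Submodule.mem_sInf]
  rintro P ⟨hPc, hP⟩
  haveI : Ideal.IsPrime P := hP
  let x : W := ⟨hW.fromSpec ⟨P, hP⟩, hW.range_fromSpec.le ⟨_, rfl⟩⟩
  have hxP : hW.primeIdealOf x = ⟨P, hP⟩ :=
    hW.fromSpec.isOpenEmbedding.injective (hW.fromSpec_primeIdealOf x)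
  have hi' := fun h => mem_of_app_eq_zero d hW x h (RingHom.mem_ker.mp hi)
  rw [hxP] at hi'
  refine hi' (hd _ fun hreg => ?_)
  letI := TopCat.Presheaf.algebra_section_stalk C.presheaf x
  haveI : IsLocalization.AtPrime (C.presheaf.stalk x) P := by
    have h := hW.isLocalization_stalk x
    rw [hxP] at h
    exact h
  haveI : IsRegularLocalRing (C.presheaf.stalk (x : C)) := hreg
  haveI := H4Depth.isDomain_of_isRegularLocalRing (C.presheaf.stalk (x : C))
  haveI := Groth.Agent.S9829.result (C.presheaf.stalk (x : C))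
  obtain ⟨s, hsP, hs⟩ := exists_notMem_cond hinj ht htB hden P (C.presheaf.stalk (x : C))
  exact hsP (hPc hs)

include hsn hn hU₀ hU₀' hνU hd in
/-- Gluing over an affine open. -/
theorem existsUnique_desc_affine {W : C.Opens} (hW : IsAffineOpen W) [IsReduced C] [IsReduced D]
    [IsClosedImmersion d] {T : Scheme.{u}} (g : Cn ⟶ T) (h : D ⟶ T)
    (hgh : pullback.fst ν d ≫ g = pullback.snd ν d ≫ h) :
    ∃! ψ : (W : Scheme.{u}) ⟶ T, (ν ∣_ W) ≫ ψ = (ν ⁻¹ᵁ W).ι ≫ g ∧ (d ∣_ W) ≫ ψ = (d ⁻¹ᵁ W).ι ≫ h := by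
  letI : Algebra Γ(C, W) Γ(Cn, ν ⁻¹ᵁ W) := (ν.app W).hom.toAlgebra
  haveI := H06NormCurve.isReduced_of_isNormalScheme hn
  obtain ⟨hfin, hinj, -, -, -, -⟩ := H06NormCurve.exists_chart ν hn hU₀ hU₀' hνU hW
  have hsnA : HTop.IsSeminormalRing Γ(C, W) := ((Groth.Agent.S7420.result C).1.mp hsn) ⟨W, hW⟩
  let pb := (d.app W).hom
  have hpb : Function.Surjective pb := d.app_surjective W hW
  let I := RingHom.ker pb
  haveI : _root_.IsReduced Γ(D, d ⁻¹ᵁ W) := inferInstance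
  have hI : I.IsRadical := fun a ⟨n, hn'⟩ => by
    rw [RingHom.mem_ker, map_pow] at hn'
    exact RingHom.mem_ker.mpr (IsReduced.eq_zero _ ⟨n, hn'⟩)
  have hIc : I.map (algebraMap Γ(C, W) Γ(Cn, ν ⁻¹ᵁ W)) ≤ cond Γ(C, W) Γ(Cn, ν ⁻¹ᵁ W) :=
    map_ker_le_cond ν d hsn hn hU₀ hU₀' hνU hd hW
  let J := I.map (algebraMap Γ(C, W) Γ(Cn, ν ⁻¹ᵁ W))
  let q : Γ(D, d ⁻¹ᵁ W) →+* Γ(Cn, ν ⁻¹ᵁ W) ⧸ J :=
    (Ideal.quotientMap J (algebraMap Γ(C, W) Γ(Cn, ν ⁻¹ᵁ W)) Ideal.le_comap_map).comp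
      (RingHom.quotientKerEquivOfSurjective hpb).symm.toRingHom
  have hq : ∀ a, q (pb a) = Ideal.Quotient.mk J (ν.app W a) := fun a => by
    show Ideal.quotientMap J (algebraMap Γ(C, W) Γ(Cn, ν ⁻¹ᵁ W)) Ideal.le_comap_map
      ((RingHom.quotientKerEquivOfSurjective hpb).symm (pb a)) = _
    rw [show (RingHom.quotientKerEquivOfSurjective hpb).symm (pb a) = Ideal.Quotient.mk I a from
      (RingEquiv.symm_apply_eq _).mpr (RingHom.quotientKerEquivOfSurjective_apply_mk hpb a).symm]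
    rfl
  have hsq : H7Flat.RingSq (ν.app W).hom pb (Ideal.Quotient.mk J) q := by
    refine ⟨fun z => (hq z).symm, Ideal.Quotient.mk_surjective, fun z z' h1 _ => hinj h1, fun x y hxy => ?_⟩
    obtain ⟨a, rfl⟩ := hpb y
    rw [hq, Ideal.Quotient.eq] at hxy
    obtain ⟨i, hi, hie⟩ := exists_of_mem_map hinj hI hIc hxy
    refine ⟨a + i, ?_, by rw [map_add, RingHom.mem_ker.mp hi, add_zero]⟩
    show ν.app W (a + i) = x
    rw [map_add, show ν.app W i = x - ν.app W a from hie]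
    ring
  let hV := hW.preimage ν
  let hE := hW.preimage d
  have hα : Spec.map (ν.app W) ≫ hW.fromSpec = hV.fromSpec ≫ ν := by
    rw [Scheme.Hom.app_eq_appLE]
    exact hW.SpecMap_appLE_fromSpec ν hV le_rfl
  have hβ : Spec.map (d.app W) ≫ hW.fromSpec = hE.fromSpec ≫ d := by
    rw [Scheme.Hom.app_eq_appLE]
    exact hW.SpecMap_appLE_fromSpec d hE le_rfl
  have w1 : Spec.map (CommRingCat.ofHom (Ideal.Quotient.mk J)) ≫ Spec.map (ν.app W) =
      Spec.map (CommRingCat.ofHom q) ≫ Spec.map (d.app W) := hsq.isPushout.w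
  let γ := pullback.lift (f := ν) (g := d)
    (Spec.map (CommRingCat.ofHom (Ideal.Quotient.mk J)) ≫ hV.fromSpec)
    (Spec.map (CommRingCat.ofHom q) ≫ hE.fromSpec)
    (by rw [Category.assoc, Category.assoc, ← hα, ← hβ, ← Category.assoc, w1, Category.assoc])
  have w2 : Spec.map (CommRingCat.ofHom (Ideal.Quotient.mk J)) ≫ hV.fromSpec ≫ g =
      Spec.map (CommRingCat.ofHom q) ≫ hE.fromSpec ≫ h := by
    have e := congrArg (γ ≫ ·) hgh
    simp only [γ, pullback.lift_fst_assoc, pullback.lift_snd_assoc, Category.assoc] at e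
    exact e
  have eV : ν ∣_ W = hV.isoSpec.hom ≫ Spec.map (ν.app W) ≫ hW.isoSpec.inv := by
    rw [← cancel_mono W.ι, morphismRestrict_ι, Category.assoc, Category.assoc, IsAffineOpen.isoSpec_inv_ι,
      hα, ← IsAffineOpen.isoSpec_inv_ι, Category.assoc, Iso.hom_inv_id_assoc]
  have eE : d ∣_ W = hE.isoSpec.hom ≫ Spec.map (d.app W) ≫ hW.isoSpec.inv := by
    rw [← cancel_mono W.ι, morphismRestrict_ι, Category.assoc, Category.assoc, IsAffineOpen.isoSpec_inv_ι,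
      hβ, ← IsAffineOpen.isoSpec_inv_ι, Category.assoc, Iso.hom_inv_id_assoc]
  obtain ⟨φ, hφ1, hφ2⟩ := hsq.exists_desc (hV.fromSpec ≫ g) (hE.fromSpec ≫ h) w2
  refine ⟨hW.isoSpec.hom ≫ φ, ⟨?_, ?_⟩, fun ψ hψ => ?_⟩
  · rw [eV, Category.assoc, Category.assoc, Iso.inv_hom_id_assoc]
    rw [show Spec.map (ν.app W) ≫ φ = hV.fromSpec ≫ g from hφ1, ← IsAffineOpen.isoSpec_inv_ι,
      Category.assoc, Iso.hom_inv_id_assoc]
  · rw [eE, Category.assoc, Category.assoc, Iso.inv_hom_id_assoc]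
    rw [show Spec.map (d.app W) ≫ φ = hE.fromSpec ≫ h from hφ2, ← IsAffineOpen.isoSpec_inv_ι,
      Category.assoc, Iso.hom_inv_id_assoc]
  · rw [← Iso.inv_comp_eq]
    refine hsq.hom_ext (hφ1.symm ▸ ?_) (hφ2.symm ▸ ?_)
    · have := hψ.1
      rw [eV, Category.assoc, Category.assoc] at this
      rw [← IsAffineOpen.isoSpec_inv_ι, Category.assoc]
      exact (cancel_epi hV.isoSpec.hom).mp (this.trans (by rw [Iso.hom_inv_id_assoc]))
    · have := hψ.2
      rw [eE, Category.assoc, Category.assoc] at this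
      rw [← IsAffineOpen.isoSpec_inv_ι, Category.assoc]
      exact (cancel_epi hE.isoSpec.hom).mp (this.trans (by rw [Iso.hom_inv_id_assoc]))

include hsn hn hU₀ hU₀' hνU hd in
theorem isPushout [IsReduced C] [IsReduced D] [IsClosedImmersion d] :
    IsPushout (pullback.fst ν d) (pullback.snd ν d) ν d := by
  have huni : ∀ {T : Scheme.{u}} (g : Cn ⟶ T) (h : D ⟶ T),
      pullback.fst ν d ≫ g = pullback.snd ν d ≫ h → ∃! φ : C ⟶ T, ν ≫ φ = g ∧ d ≫ φ = h := by
    intro T g h hgh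
    choose ψ hψ hψu using fun W : C.affineOpens =>
      existsUnique_desc_affine ν d hsn hn hU₀ hU₀' hνU hd W.2 g h hgh
    have hres : ∀ (W' W : C.affineOpens) (hle : (W' : C.Opens) ≤ W), C.homOfLE hle ≫ ψ W = ψ W' := by
      intro W' W hle
      refine hψu W' _ ⟨?_, ?_⟩
      · rw [show (ν ∣_ (W' : C.Opens)) ≫ C.homOfLE hle ≫ ψ W =
          Cn.homOfLE (ν.preimage_mono hle) ≫ (ν ∣_ (W : C.Opens)) ≫ ψ W by
          rw [← Category.assoc, ← Category.assoc]
          congr 1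
          simp [← cancel_mono (W : C.Opens).ι], (hψ W).1, Scheme.homOfLE_ι_assoc]
      · rw [show (d ∣_ (W' : C.Opens)) ≫ C.homOfLE hle ≫ ψ W =
          D.homOfLE (d.preimage_mono hle) ≫ (d ∣_ (W : C.Opens)) ≫ ψ W by
          rw [← Category.assoc, ← Category.assoc]
          congr 1
          simp [← cancel_mono (W : C.Opens).ι], (hψ W).2, Scheme.homOfLE_ι_assoc]
    obtain ⟨m, hm⟩ := H7Flat.exists_glue (S := C) (T := T) (fun W : C.affineOpens => (W : C.Opens).toScheme)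
      (fun W => (W : C.Opens).ι) ψ (fun x => by
        obtain ⟨W, hW, hx, -⟩ := exists_isAffineOpen_mem_and_subset (show x ∈ (⊤ : C.Opens) from trivial)
        exact ⟨⟨W, hW⟩, (Scheme.Opens.range_ι W).ge hx⟩) fun a b x ha hb => by
        obtain ⟨c, hc, hxc, hle⟩ := exists_isAffineOpen_mem_and_subset
          (show x ∈ (a : C.Opens) ⊓ b from ⟨(Scheme.Opens.range_ι _).le ha, (Scheme.Opens.range_ι _).le hb⟩)
        have h1 : c ≤ (a : C.Opens) := fun y hy => (hle hy).1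
        have h2 : c ≤ (b : C.Opens) := fun y hy => (hle hy).2
        exact ⟨⟨c, hc⟩, C.homOfLE h1, C.homOfLE h2, C.homOfLE_ι h1, C.homOfLE_ι h2, hres ⟨c, hc⟩ a h1,
          hres ⟨c, hc⟩ b h2, (Scheme.Opens.range_ι c).ge hxc⟩
    refine ⟨m, ⟨H7Flat.hom_ext_local fun y => ?_, H7Flat.hom_ext_local fun y => ?_⟩, fun m' hm' => ?_⟩
    · obtain ⟨W, hW, hx, -⟩ := exists_isAffineOpen_mem_and_subset (show ν y ∈ (⊤ : C.Opens) from trivial)
      refine ⟨_, (ν ⁻¹ᵁ W).ι, inferInstance, (Scheme.Opens.range_ι _).ge hx, ?_⟩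
      rw [← morphismRestrict_ι_assoc, hm ⟨W, hW⟩]
      exact (hψ ⟨W, hW⟩).1
    · obtain ⟨W, hW, hx, -⟩ := exists_isAffineOpen_mem_and_subset (show d y ∈ (⊤ : C.Opens) from trivial)
      refine ⟨_, (d ⁻¹ᵁ W).ι, inferInstance, (Scheme.Opens.range_ι _).ge hx, ?_⟩
      rw [← morphismRestrict_ι_assoc, hm ⟨W, hW⟩]
      exact (hψ ⟨W, hW⟩).2
    · refine H7Flat.hom_ext_local fun x => ?_
      obtain ⟨W, hW, hx, -⟩ := exists_isAffineOpen_mem_and_subset (show x ∈ (⊤ : C.Opens) from trivial)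
      refine ⟨_, W.ι, inferInstance, (Scheme.Opens.range_ι _).ge hx, ?_⟩
      rw [hm ⟨W, hW⟩]
      refine hψu ⟨W, hW⟩ _ ⟨?_, ?_⟩
      · rw [morphismRestrict_ι_assoc, hm'.1]
      · rw [morphismRestrict_ι_assoc, hm'.2]
  refine ⟨⟨pullback.condition⟩, ⟨PushoutCocone.isColimitAux' _ fun s => ?_⟩⟩
  have hu := huni s.inl s.inr s.condition
  exact ⟨hu.choose, hu.choose_spec.1.1, hu.choose_spec.1.2, fun {m} h1 h2 => hu.choose_spec.2 m ⟨h1, h2⟩⟩

include hsn hn hU₀ hU₀' hνU in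
theorem isReduced_fiber_of_dim_le_one [IsReduced C] (hdim : topologicalKrullDim C ≤ 1) (x : C) :
    AlgebraicGeometry.IsReduced (ν.fiber x) := by
  obtain ⟨W, hW, hxW, -⟩ := exists_isAffineOpen_mem_and_subset (show x ∈ (⊤ : C.Opens) from trivial)
  letI : Algebra Γ(C, W) Γ(Cn, ν ⁻¹ᵁ W) := (ν.app W).hom.toAlgebra
  haveI := H06NormCurve.isReduced_of_isNormalScheme hn
  haveI : IsNoetherianRing Γ(C, W) := IsLocallyNoetherian.component_noetherian ⟨W, hW⟩
  obtain ⟨hfin, hinj, t, ht, -, hden⟩ := H06NormCurve.exists_chart ν hn hU₀ hU₀' hνU hW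
  haveI : Module.Finite Γ(C, W) Γ(Cn, ν ⁻¹ᵁ W) := hfin
  have hsnA : HTop.IsSeminormalRing Γ(C, W) := ((Groth.Agent.S7420.result C).1.mp hsn) ⟨W, hW⟩
  let P := hW.primeIdealOf ⟨x, hxW⟩
  have htc := mem_cond_of_den hsnA hinj hden
  have hdimA : ringKrullDim Γ(C, W) ≤ 1 := by
    rw [← PrimeSpectrum.topologicalKrullDim_eq_ringKrullDim]
    exact hW.fromSpec.isOpenEmbedding.isInducing.topologicalKrullDim_le.trans hdim
  haveI hred : _root_.IsReduced (P.asIdeal.Fiber Γ(Cn, ν ⁻¹ᵁ W)) := by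
    refine isReduced_fiber hsnA hinj P.asIdeal fun Q hQ hcQ hQP => ?_
    by_contra hne
    have htQ : t ∈ Q := hcQ htc
    haveI : Ideal.IsPrime Q := hQ
    have hQmin : Q ∉ minimalPrimes Γ(C, W) := fun hmin =>
      Set.disjoint_left.mp (Ideal.disjoint_nonZeroDivisors_of_mem_minimalPrimes hmin) htQ ht
    obtain ⟨Q₀, hQ₀, hQ₀Q⟩ := Ideal.exists_minimalPrimes_le (I := (⊥ : Ideal Γ(C, W))) (J := Q) bot_le
    haveI : Ideal.IsPrime Q₀ := hQ₀.1.1
    have h1 : (⟨Q₀, inferInstance⟩ : PrimeSpectrum Γ(C, W)) < ⟨Q, inferInstance⟩ :=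
      lt_of_le_of_ne hQ₀Q fun h => hQmin (by
        have h' : Q₀ = Q := congrArg PrimeSpectrum.asIdeal h
        exact h' ▸ hQ₀)
    have h2 : (⟨Q, inferInstance⟩ : PrimeSpectrum Γ(C, W)) < P := lt_of_le_of_ne hQP fun h =>
      hne (congrArg PrimeSpectrum.asIdeal h)
    let l : LTSeries (PrimeSpectrum Γ(C, W)) :=
      ((RelSeries.singleton _ ⟨Q₀, inferInstance⟩).snoc ⟨Q, inferInstance⟩ h1).snoc P (by simpa using h2)
    have h3 := (Order.LTSeries.length_le_krullDim l).trans hdimA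
    simp [l] at h3
  haveI hfib : AlgebraicGeometry.IsReduced ((Spec.map (ν.app W)).fiber P) := by
    let e := Arrow.leftFunc.mapIso (Spec.fiberToSpecResidueFieldIso Γ(C, W) Γ(Cn, ν ⁻¹ᵁ W) P)
    haveI : AlgebraicGeometry.IsReduced
        (Spec (CommRingCat.of (P.asIdeal.Fiber Γ(Cn, ν ⁻¹ᵁ W)))) := (affine_isReduced_iff _).2 hred
    haveI : AlgebraicGeometry.IsReduced (Arrow.leftFunc.obj (Arrow.mk (Spec.map (CommRingCat.ofHom
        (algebraMap P.asIdeal.ResidueField (P.asIdeal.Fiber Γ(Cn, ν ⁻¹ᵁ W))))))) := this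
    exact isReduced_of_isOpenImmersion e.hom
  let hV := hW.preimage ν
  have hα : Spec.map (ν.app W) ≫ hW.fromSpec = hV.fromSpec ≫ ν := by
    rw [Scheme.Hom.app_eq_appLE]
    exact hW.SpecMap_appLE_fromSpec ν hV le_rfl
  have hpb : IsPullback hV.fromSpec (Spec.map (ν.app W)) ν hW.fromSpec :=
    (IsOpenImmersion.isPullback _ _ _ _ hα.symm (by
      rw [IsAffineOpen.opensRange_fromSpec, IsAffineOpen.opensRange_fromSpec])).flip
  have h4 := isPullback_fiberToSpecResidueField_of_isPullback hpb P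
  haveI : IsIso (hW.fromSpec.residueFieldMap P) := inferInstance
  have hiso := h4.isIso_fst_of_isIso
  have hx' : hW.fromSpec P = x := hW.fromSpec_primeIdealOf ⟨x, hxW⟩
  rw [← hx']
  let e := @asIso _ _ _ _ _ hiso
  haveI : AlgebraicGeometry.IsReduced
      (pullback (Spec.map (ν.app W)) ((Spec Γ(C, W)).fromSpecResidueField P)) := hfib
  exact isReduced_of_isOpenImmersion e.inv

/-- Dimension of a scheme from the dimensions of its components. -/
theorem topologicalKrullDim_le_one_of_components {X : Scheme.{u}}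
    (h : ∀ W ∈ irreducibleComponents (X : Type u), topologicalKrullDim W ≤ 1) : topologicalKrullDim X ≤ 1 := by
  refine iSup_le fun l => ?_
  obtain ⟨W, hW, hle⟩ := exists_mem_irreducibleComponents_subset_of_isIrreducible _ l.last.isIrreducible
  have hmem : ∀ i, ((l i : IrreducibleCloseds (X : Type u)) : Set (X : Type u)) ⊆ W := fun i =>
    (SetLike.coe_subset_coe.mpr (l.monotone (Fin.le_last i))).trans hle
  have himage : ∀ i, Subtype.val '' (Subtype.val ⁻¹' (l i : Set (X : Type u)) : Set W) = l i := fun i => by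
    rw [Subtype.image_preimage_coe, Set.inter_eq_right.mpr (hmem i)]
  have hirr : ∀ i, IsIrreducible (Subtype.val ⁻¹' (l i : Set (X : Type u)) : Set W) := fun i => by
    refine ⟨?_, fun U V hU hV hUne hVne => ?_⟩
    · obtain ⟨x, hx⟩ := (l i).isIrreducible.nonempty
      exact ⟨⟨x, hmem i hx⟩, hx⟩
    · obtain ⟨U', hU', rfl⟩ := isOpen_induced_iff.mp hU
      obtain ⟨V', hV', rfl⟩ := isOpen_induced_iff.mp hV
      obtain ⟨a, ha, ha'⟩ := hUne
      obtain ⟨b, hb, hb'⟩ := hVne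
      obtain ⟨z, hz, hz'⟩ := (l i).isIrreducible.isPreirreducible U' V' hU' hV' ⟨a, ha, ha'⟩ ⟨b, hb, hb'⟩
      exact ⟨⟨z, hmem i hz⟩, hz, hz'⟩
  let toW : Fin (l.length + 1) → IrreducibleCloseds W := fun i =>
    ⟨Subtype.val ⁻¹' (l i : Set (X : Type u)), hirr i, (l i).isClosed.preimage continuous_subtype_val⟩
  have hmono : StrictMono toW := fun a b hab => by
    refine lt_of_le_of_ne (fun z hz => (l.monotone hab.le) hz) fun he => (l.strictMono hab).ne ?_
    have := congrArg (fun s : IrreducibleCloseds W => Subtype.val '' (s : Set W)) he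
    simp only [toW, IrreducibleCloseds.coe_mk, himage] at this
    exact IrreducibleCloseds.ext this
  exact le_trans (Order.LTSeries.length_le_krullDim (LTSeries.mk l.length toW hmono)) (h W hW)

end Groth.Agent.H06SNPush
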